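import Cfsg.Agent.H461.T5.Conway
import Cfsg.Agent.H573.Spor.HSFive

/-!
# Pairs of elements of order 5 in `HS` and the groups between it and `Co0` (helper461)

`a`, `b`, `c` are the elements of helper573 (`H573.Spor.HSFive`).
-/

set_option autoImplicit false
set_option maxRecDepth 100000

namespace Cfsg.Agent.H461.T5

open Subgroup Cfsg Cfsg.Agent.SporadicA Cfsg.Agent.SporadicStructure.Co0Matrix Cfsg.Agent.CoOneType.CoEval
open Cfsg.Agent.LThreeCo1.Ev Cfsg.Agent.LThreeMB.Fix Cfsg.Agent.H573.Spor.Co0 Cfsg.Agent.H533.T5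

namespace HS

open Cfsg.Agent.H573.Spor.HSFive

/-- the elements -/
def e : ℕ → Co0
  | 0 => gA
  | 1 => gB
  | 2 => gC
  | 3 => gG
  | _ => gH

/-- their matrices -/
def Ms : ℕ → List (List ℤ)
  | 0 => dec nA
  | 1 => dec nB
  | 2 => dec nC
  | 3 => dec nG
  | _ => dec nH

theorem hM : ∀ i, Rep (e i) (Ms i)
  | 0 => repA
  | 1 => repB
  | 2 => repC
  | 3 => repG
  | _ + 4 => repH

theorem chk : ∀ i < 5 + 2, chkR Ms 5 i = true := by
  intro i hi
  interval_cases i
  · decide +kernel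
  · decide +kernel
  · decide +kernel
  · decide +kernel
  · decide +kernel
  · decide +kernel
  · decide +kernel

theorem memG : gG.1 ∈ Spor.HS := mem_HS repG (by decide +kernel) (by decide +kernel)

/-- **the pairs of elements of order 5** of a subgroup of `Co₀` containing `HS` -/
theorem wpair (X : Subgroup (Equiv.Perm leechLattice)) (hX : X ≤ Co0) (hXM : ∀ g ∈ Spor.HS, g ∈ X)
    (h4 : ¬ 5 ^ 4 ∣ Nat.card X) {x y : X} (hx : orderOf x = 5) (hy : orderOf y = 5) : WPair 5 (⊤ : Subgroup X) x y :=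
  have : Fact (Nat.Prime 5) := ⟨by norm_num⟩
  wpair_of_le (e := e) X hX h4 hM chk gh (hXM _ memA) (hXM _ memB) (hXM _ memC) (hXM _ memG) a_pow b_pow c_pow
    c_ne ac bc ab hx hy

end HS

end Cfsg.Agent.H461.T5
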