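import Cfsg.Agent.H533.T5.SporDefs
import Cfsg.Agent.H461.T5.McL
import Cfsg.Agent.H461.T5.HS
import Cfsg.Agent.H461.T5.Ru
import Cfsg.Agent.BpSpor.Row.HS
import Cfsg.Agent.BpSpor.Row.Ru
import Cfsg.Agent.CpAut.SmallP.RowMcL
import Cfsg.Agent.H573.Spor.ConwayFive

/-!
# The weak rows `(HS, 5)`, `(McL, 5)`, `(Ru, 5)` (helper461)
-/

set_option autoImplicit false

namespace Cfsg.Agent.H461.T5

open Subgroup Cfsg Cfsg.Agent.H533.T5

universe u

/-- a finite simple group of composite order is not commutative -/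
theorem not_comm_of_card {K : Type*} [Group K] [Finite K] [IsSimpleGroup K] (h : ¬ (Nat.card K).Prime) :
    ¬ IsMulCommutative K := by
  intro hc
  let _ : CommGroup K := { ‹Group K› with mul_comm := hc.is_comm.comm }
  exact h IsSimpleGroup.prime_card

/-- pairs along an isomorphism -/
theorem wpair_equiv {G H : Type*} [Group G] [Group H] {p : ℕ} (e : G ≃* H) {x y : G}
    (h : WPair p (⊤ : Subgroup H) (e x) (e y)) : WPair p (⊤ : Subgroup G) x y := by
  refine WPair.of_hom e.toMonoidHom ?_ h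
  rw [← MonoidHom.range_eq_map, MonoidHom.range_eq_top.2 e.surjective]

/-- a row from the pairs in a model, and the automorphisms of odd order -/
theorem wrow_of_model {K H : Type*} [Group K] [Finite K] [IsSimpleGroup K] [Group H] {p : ℕ} (hp : p.Prime) (hp2 : p ≠ 2)
    (hcard : ¬ (Nat.card K).Prime) (hinn : Cfsg.Agent.BpSpor.Inn.OddInn K) (e : K ≃* H)
    (h : ∀ x y : H, orderOf x = p → orderOf y = p → WPair p (⊤ : Subgroup H) x y) : WRow p K := by
  refine WRow.of_inner (not_comm_of_card hcard) (fun a ha => ?_) (fun x y hx hy => wpair_equiv e (h _ _ ?_ ?_))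
  · obtain ⟨g, rfl⟩ := hinn p hp hp2 a ha
    exact ⟨g, rfl⟩
  · rw [MulEquiv.orderOf_eq, hx]
  · rw [MulEquiv.orderOf_eq, hy]

theorem hs (K : Type u) [Group K] [Finite K] [IsSimpleGroup K] (h : Spor.IsoHS K) : WRow 5 K := by
  have hc : Nat.card K = 44352000 := (Cfsg.Agent.BpSpor.Row.dat_hs h).card
  have hinn := (Cfsg.Agent.BpSpor.Row.dat_hs h).inn
  obtain ⟨e⟩ := h
  have hc' : Nat.card Spor.HS = 44352000 := by rw [← Nat.card_congr e.toEquiv, hc]
  exact wrow_of_model (by norm_num) (by norm_num) (by rw [hc]; norm_num) hinn e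
    fun x y hx hy => HS.wpair Spor.HS (fun _ h => h.1.1) (fun _ h => h) (by rw [hc']; norm_num) hx hy

theorem mcl (K : Type u) [Group K] [Finite K] [IsSimpleGroup K] (h : Spor.IsoMcL K) : WRow 5 K := by
  obtain ⟨e⟩ := h
  have hc' : Nat.card Spor.McL = 898128000 := Cfsg.Agent.H573.Spor.card_McL
  have hc : Nat.card K = 898128000 := by rw [Nat.card_congr e.toEquiv, hc']
  have hinn : Cfsg.Agent.BpSpor.Inn.OddInn K := Cfsg.Agent.BpSpor.Inn.OddInn.congr e
    (Cfsg.Agent.BpSpor.Inn.of_pow fun α => by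
      rw [pow_two]; exact Cfsg.Agent.CpAut.SmallP.McL.sq_inner α)
  exact wrow_of_model (by norm_num) (by norm_num) (by rw [hc]; norm_num) hinn e
    fun x y hx hy => McL.wpair Spor.McL (fun _ h => h.1.1) (fun _ h => h) (by rw [hc']; norm_num) hx hy

theorem ru (K : Type u) [Group K] [Finite K] [IsSimpleGroup K] (h : Spor.IsoRu K) : WRow 5 K := by
  have hc : Nat.card K = 145926144000 := (Cfsg.Agent.BpSpor.Row.dat_ru h).card
  have hinn := (Cfsg.Agent.BpSpor.Row.dat_ru h).inn
  obtain ⟨e⟩ := h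
  exact wrow_of_model (by norm_num) (by norm_num) (by rw [hc]; norm_num) hinn (e.trans RuLat.Main.equiv)
    fun x y hx hy => Ru.wpair hx hy

end Cfsg.Agent.H461.T5
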