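import Cfsg.Agent.H533.T5.Tools
import Cfsg.Agent.H573.Spor.Base

/-!
# Pairs in groups with Sylow `p`-subgroups of order `p ^ 3`: a certificate (helper461)

`wpair_of_cube` : `p ^ 4 ∤ |G|`, `a`, `b`, `c` of order `p` with `a b = b a c`, `c ≠ 1` commuting with `a` and `b`; then the
subgroups of order `p` of `⟨a, b⟩` are up to conjugation `⟨c⟩`, `⟨a⟩` and `⟨a ^ t b⟩`, `t < p`, and all pairs of elements
of order `p` of `G` are fine if for all representatives `r`, `s` some conjugate `s'` of `s` violates the law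
`r s' s' r = s' r r s'` of the groups of class two.
-/

set_option autoImplicit false

namespace Cfsg.Agent.H461.T5

open Subgroup Cfsg.Agent.H533.T5

section Law

/-- groups of order dividing `p ^ 3` have class at most two -/
theorem comm_mem_center {P : Type*} [Group P] [Finite P] {p n : ℕ} [Fact p.Prime] (hP : Nat.card P = p ^ n) (hn : n ≤ 3)
    (u v : P) : u * v * (v * u)⁻¹ ∈ center P := by
  have hp : p.Prime := Fact.out
  by_cases hc : ∀ a b : P, a * b = b * a
  · rw [hc u v, mul_inv_cancel]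
    exact one_mem _
  · have hn3 : n = 3 := by
      by_contra hne
      apply hc
      have hn2 : n ≤ 2 := by omega
      interval_cases n
      · have h1 : Subsingleton P := (Nat.card_eq_one_iff_unique.1 (by simpa using hP)).1
        exact fun a b => Subsingleton.elim _ _
      · have h1 : IsCyclic P := isCyclic_of_prime_card (p := p) (by simpa using hP)
        let _ := IsCyclic.commGroup (α := P)
        exact fun a b => mul_comm a b
      · exact fun a b => (IsPGroup.isMulCommutative_of_card_eq_prime_sq hP).1.1 a b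
    subst hn3
    have hZ := Cfsg.Agent.H573.card_center_cube hP hc
    have hq : Nat.card (P ⧸ center P) = p ^ 2 := by
      have h3 : Nat.card (P ⧸ center P) * p = p ^ 2 * p := by
        have h4 := Subgroup.card_eq_card_quotient_mul_card_subgroup (center P)
        rw [hZ, hP] at h4
        rw [← h4]
        ring
      exact Nat.eq_of_mul_eq_mul_right hp.pos h3
    have hcm := (IsPGroup.isMulCommutative_of_card_eq_prime_sq hq).1.1
    have h5 := hcm (QuotientGroup.mk u) (QuotientGroup.mk v)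
    rw [← QuotientGroup.eq_one_iff]
    have h6 : ((u * v * (v * u)⁻¹ : P) : P ⧸ center P) =
        (QuotientGroup.mk u * QuotientGroup.mk v) * (QuotientGroup.mk v * QuotientGroup.mk u)⁻¹ := rfl
    rw [h6, h5, mul_inv_cancel]

/-- the law `u v v u = v u u v` -/
theorem law {P : Type*} [Group P] [Finite P] {p n : ℕ} [Fact p.Prime] (hP : Nat.card P = p ^ n) (hn : n ≤ 3)
    (u v : P) : u * v * (v * u) = v * u * (u * v) := by
  have h := comm_mem_center hP hn u v
  have h1 : u * v = u * v * (v * u)⁻¹ * (v * u) := by group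
  set z := u * v * (v * u)⁻¹ with hz
  have h2 : (v * u) * z = z * (v * u) := (mem_center_iff.1 h (v * u))
  calc u * v * (v * u) = z * (v * u) * (v * u) := by rw [h1]
    _ = (v * u) * z * (v * u) := by rw [h2]
    _ = (v * u) * (z * (v * u)) := by rw [mul_assoc]
    _ = v * u * (u * v) := by rw [← h1]

variable {G : Type*} [Group G] [Finite G] {p : ℕ} [Fact p.Prime]

theorem law_of_isPGroup (h4 : ¬ p ^ 4 ∣ Nat.card G) {K : Subgroup G} (hK : IsPGroup p K) {u v : G} (hu : u ∈ K)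
    (hv : v ∈ K) : u * v * (v * u) = v * u * (u * v) := by
  obtain ⟨n, hn⟩ := IsPGroup.iff_card.1 hK
  have hn3 : n ≤ 3 := by
    by_contra h
    apply h4
    calc p ^ 4 ∣ p ^ n := pow_dvd_pow p (by omega)
      _ ∣ Nat.card G := by rw [← hn]; exact Subgroup.card_subgroup_dvd_card _
  exact congrArg Subtype.val (law hn hn3 ⟨u, hu⟩ ⟨v, hv⟩)

end Law

section Words

variable {G : Type*} [Group G] {p : ℕ} {a b c : G}

theorem a_mul_pow (hbc : b * c = c * b) (hab : a * b = b * a * c) (i : ℕ) :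
    a * b ^ i = b ^ i * a * c ^ i := by
  have hb : Commute b c := hbc
  induction i with
  | zero => simp
  | succ i ih =>
    calc a * b ^ (i + 1) = (a * b ^ i) * b := by rw [pow_succ, mul_assoc]
      _ = b ^ i * a * (c ^ i * b) := by rw [ih, mul_assoc]
      _ = b ^ i * a * (b * c ^ i) := by rw [(hb.pow_right i).eq]
      _ = b ^ i * (a * b) * c ^ i := by simp only [mul_assoc]
      _ = b ^ i * (b * a * c) * c ^ i := by rw [hab]
      _ = b ^ (i + 1) * a * c ^ (i + 1) := by rw [pow_succ, pow_succ']; simp only [mul_assoc]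

theorem pow_mul_pow (hbc : b * c = c * b) (hac : a * c = c * a) (hab : a * b = b * a * c) (j i : ℕ) :
    a ^ j * b ^ i = b ^ i * a ^ j * c ^ (j * i) := by
  have ha : Commute a c := hac
  induction j with
  | zero => simp
  | succ j ih =>
    calc a ^ (j + 1) * b ^ i = a ^ j * (a * b ^ i) := by rw [pow_succ, mul_assoc]
      _ = (a ^ j * b ^ i) * (a * c ^ i) := by rw [a_mul_pow hbc hab]; simp only [mul_assoc]
      _ = b ^ i * a ^ j * (c ^ (j * i) * a) * c ^ i := by rw [ih]; simp only [mul_assoc]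
      _ = b ^ i * a ^ j * (a * c ^ (j * i)) * c ^ i := by rw [(ha.pow_right (j * i)).eq]
      _ = b ^ i * (a ^ j * a) * (c ^ (j * i) * c ^ i) := by simp only [mul_assoc]
      _ = b ^ i * a ^ (j + 1) * c ^ ((j + 1) * i) := by rw [← pow_succ, ← pow_add]; ring_nf

theorem nf_mul (hbc : b * c = c * b) (hac : a * c = c * a) (hab : a * b = b * a * c) (i j k i' j' k' : ℕ) :
    b ^ i * a ^ j * c ^ k * (b ^ i' * a ^ j' * c ^ k') = b ^ (i + i') * a ^ (j + j') * c ^ (j * i' + k + k') := by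
  have ha : Commute a c := hac
  have hb : Commute b c := hbc
  have h1 : c ^ k * (b ^ i' * a ^ j') = b ^ i' * a ^ j' * c ^ k :=
    ((hb.pow_pow i' k).mul_left (ha.pow_pow j' k)).eq.symm
  have h2 : c ^ (j * i') * a ^ j' = a ^ j' * c ^ (j * i') := ((ha.pow_pow j' (j * i')).eq).symm
  calc b ^ i * a ^ j * c ^ k * (b ^ i' * a ^ j' * c ^ k')
      = b ^ i * a ^ j * (c ^ k * (b ^ i' * a ^ j')) * c ^ k' := by simp only [mul_assoc]
    _ = b ^ i * (a ^ j * b ^ i') * a ^ j' * (c ^ k * c ^ k') := by rw [h1]; simp only [mul_assoc]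
    _ = b ^ i * b ^ i' * a ^ j * (c ^ (j * i') * a ^ j') * (c ^ k * c ^ k') := by
        rw [pow_mul_pow hbc hac hab]; simp only [mul_assoc]
    _ = (b ^ i * b ^ i') * (a ^ j * a ^ j') * (c ^ (j * i') * c ^ k * c ^ k') := by rw [h2]; simp only [mul_assoc]
    _ = _ := by rw [← pow_add, ← pow_add, ← pow_add, ← pow_add]

/-- the normal form of the elements of `⟨a, b⟩` -/
theorem exists_nf [Finite G] (hbc : b * c = c * b) (hac : a * c = c * a) (hab : a * b = b * a * c) {x : G}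
    (hx : x ∈ closure ({a, b} : Set G)) : ∃ i j k : ℕ, x = b ^ i * a ^ j * c ^ k := by
  induction hx using closure_induction with
  | mem x hx =>
    rcases hx with rfl | rfl
    · exact ⟨0, 1, 0, by simp⟩
    · exact ⟨1, 0, 0, by simp⟩
  | one => exact ⟨0, 0, 0, by simp⟩
  | mul x y _ _ hx hy =>
    obtain ⟨i, j, k, rfl⟩ := hx
    obtain ⟨i', j', k', rfl⟩ := hy
    exact ⟨_, _, _, nf_mul hbc hac hab i j k i' j' k'⟩
  | inv x _ hx =>
    have h1 : ∀ n : ℕ, ∃ i j k : ℕ, x ^ n = b ^ i * a ^ j * c ^ k := by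
      intro n
      induction n with
      | zero => exact ⟨0, 0, 0, by simp⟩
      | succ n ih =>
        obtain ⟨i, j, k, h⟩ := ih
        obtain ⟨i', j', k', h'⟩ := hx
        exact ⟨_, _, _, by rw [pow_succ, h, h', nf_mul hbc hac hab i j k i' j' k']⟩
    have h2 : x⁻¹ = x ^ (orderOf x - 1) := by
      rw [inv_eq_iff_mul_eq_one, ← pow_succ', Nat.sub_add_cancel (orderOf_pos x), pow_orderOf_eq_one]
    rw [h2]
    exact h1 _

/-- the powers of `a ^ t b` -/
theorem pow_atb (hbc : b * c = c * b) (hac : a * c = c * a) (hab : a * b = b * a * c) (t n : ℕ) :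
    ∃ s : ℕ, (a ^ t * b) ^ n = b ^ n * a ^ (t * n) * c ^ s := by
  induction n with
  | zero => exact ⟨0, by simp⟩
  | succ n ih =>
    obtain ⟨s, hs⟩ := ih
    have h1 : a ^ t * b = b ^ 1 * a ^ t * c ^ (t * 1) := by
      rw [← pow_mul_pow hbc hac hab t 1, pow_one]
    refine ⟨t * n * 1 + s + t * 1, ?_⟩
    have h2 : (a ^ t * b) ^ (n + 1) = b ^ n * a ^ (t * n) * c ^ s * (b ^ 1 * a ^ t * c ^ (t * 1)) := by
      rw [pow_succ, hs, ← h1]
    rw [h2, nf_mul hbc hac hab, mul_add, mul_one, mul_one]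

/-- conjugates of `a ^ j` under powers of `b` -/
theorem conj_a (hbc : b * c = c * b) (hac : a * c = c * a) (hab : a * b = b * a * c) (j m : ℕ) :
    (b ^ m)⁻¹ * a ^ j * b ^ m = a ^ j * c ^ (j * m) := by
  rw [mul_assoc, pow_mul_pow hbc hac hab, ← mul_assoc, ← mul_assoc, inv_mul_cancel, one_mul]

/-- conjugates of `(a ^ t b) ^ n` under powers of `a` -/
theorem conj_atb (hbc : b * c = c * b) (hac : a * c = c * a) (hab : a * b = b * a * c) (t n m : ℕ) :
    a ^ m * (a ^ t * b) ^ n * (a ^ m)⁻¹ = (a ^ t * b) ^ n * c ^ (m * n) := by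
  have ha : Commute a c := hac
  obtain ⟨s, hs⟩ := pow_atb hbc hac hab t n
  rw [mul_inv_eq_iff_eq_mul, hs]
  calc a ^ m * (b ^ n * a ^ (t * n) * c ^ s) = (b ^ 0 * a ^ m * c ^ 0) * (b ^ n * a ^ (t * n) * c ^ s) := by simp
    _ = b ^ (0 + n) * a ^ (m + t * n) * c ^ (m * n + 0 + s) := nf_mul hbc hac hab _ _ _ _ _ _
    _ = b ^ (n + 0) * a ^ (t * n + m) * c ^ (t * n * 0 + (s + m * n) + 0) := by
        rw [zero_add, add_zero, add_comm m, mul_zero, zero_add, add_zero, add_zero, add_comm s]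
    _ = (b ^ n * a ^ (t * n) * c ^ (s + m * n)) * (b ^ 0 * a ^ m * c ^ 0) := (nf_mul hbc hac hab _ _ _ _ _ _).symm
    _ = _ := by
        rw [pow_add]
        simp only [pow_zero, one_mul, mul_one, mul_assoc]

end Words

section Main

variable {G : Type*} [Group G] {p : ℕ}

/-- the representatives of the classes of subgroups of order `p` of `⟨a, b⟩` -/
def Rp (p : ℕ) (a b c r : G) : Prop := r = c ∨ r = a ∨ ∃ t < p, r = a ^ t * b

/-- `k ≡ j m` can be solved for `m` -/
theorem exists_mul_modEq {p : ℕ} (hp : p.Prime) {j : ℕ} (hj : ¬ p ∣ j) (k : ℕ) : ∃ m : ℕ, m < p ∧ j * m ≡ k [MOD p] := by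
  have : Fact p.Prime := ⟨hp⟩
  have hj' : (j : ZMod p) ≠ 0 := by rwa [Ne, ZMod.natCast_eq_zero_iff]
  refine ⟨((j : ZMod p)⁻¹ * k).val, ZMod.val_lt _, ?_⟩
  rw [← ZMod.natCast_eq_natCast_iff]
  push_cast
  rw [ZMod.natCast_zmod_val, mul_inv_cancel_left₀ hj']

theorem pow_eq_of_modEq {x : G} (hx : x ^ p = 1) {m n : ℕ} (h : m ≡ n [MOD p]) : x ^ m = x ^ n := by
  rw [pow_eq_pow_iff_modEq]
  exact h.of_dvd (orderOf_dvd_of_pow_eq_one hx)

theorem exists_rep [Finite G] (hp : p.Prime) {a b c : G} (ha : a ^ p = 1) (hc : c ^ p = 1) (hbc : b * c = c * b)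
    (hac : a * c = c * a) (hab : a * b = b * a * c) (hb : b ^ p = 1) {x : G} (hx : x ∈ closure ({a, b} : Set G)) (hx1 : x ≠ 1) :
    ∃ r, Rp p a b c r ∧ ∃ (u : G) (n : ℕ), ¬ p ∣ n ∧ x = u * r ^ n * u⁻¹ := by
  obtain ⟨i, j, k, rfl⟩ := exists_nf hbc hac hab hx
  have hpow : ∀ {y : G}, y ^ p = 1 → ∀ n, p ∣ n → y ^ n = 1 := by
    intro y hy n hn
    obtain ⟨m, rfl⟩ := hn
    rw [pow_mul, hy, one_pow]
  by_cases hi : p ∣ i
  · rw [hpow hb i hi, one_mul] at hx1 ⊢
    by_cases hj : p ∣ j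
    · rw [hpow ha j hj, one_mul] at hx1 ⊢
      refine ⟨c, Or.inl rfl, 1, k, fun h => hx1 (hpow hc k h), by group⟩
    · obtain ⟨m, -, hm⟩ := exists_mul_modEq hp hj k
      refine ⟨a, Or.inr (Or.inl rfl), (b ^ m)⁻¹, j, hj, ?_⟩
      rw [inv_inv, conj_a hbc hac hab, pow_eq_of_modEq hc hm]
  · obtain ⟨t, ht, htj⟩ := exists_mul_modEq hp hi j
    obtain ⟨s, hs⟩ := pow_atb hbc hac hab t i
    have h1 : b ^ i * a ^ j = b ^ i * a ^ (t * i) := by
      rw [pow_eq_of_modEq ha (m := t * i) (n := j) (by rwa [mul_comm])]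
    -- `c ^ k = c ^ s c ^ (m i)`
    obtain ⟨m, -, hm⟩ := exists_mul_modEq hp hi (k + (p * s - s))
    have h2 : s + m * i ≡ k [MOD p] := by
      have h3 : s ≤ p * s := Nat.le_mul_of_pos_left s hp.pos
      have h4 : s + m * i ≡ s + (k + (p * s - s)) [MOD p] := by
        rw [mul_comm m i]
        exact hm.add_left s
      have h5 : s + (k + (p * s - s)) = k + p * s := by omega
      rw [h5] at h4
      refine h4.trans ?_
      exact (Nat.modEq_iff_dvd' (by omega)).2 ⟨s, by omega⟩ |>.symm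
    refine ⟨a ^ t * b, Or.inr (Or.inr ⟨t, ht, rfl⟩), a ^ m, i, hi, ?_⟩
    rw [conj_atb hbc hac hab, hs, h1, mul_assoc (b ^ i * a ^ (t * i)), ← pow_add, pow_eq_of_modEq hc h2]

theorem mem_zpowers_pow [Finite G] (hp : p.Prime) {r : G} {N : ℕ} (hr : r ^ p ^ N = 1) {n : ℕ} (hn : ¬ p ∣ n) :
    r ∈ zpowers (r ^ n) := by
  have h1 : (orderOf r).Coprime n := by
    have h2 : orderOf r ∣ p ^ N := orderOf_dvd_of_pow_eq_one hr
    exact Nat.Coprime.coprime_dvd_left h2 (Nat.Coprime.pow_left N ((Nat.Prime.coprime_iff_not_dvd hp).2 hn))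
  have h3 := (Nat.Coprime.symm h1)
  obtain ⟨m, hm⟩ := exists_pow_eq_self_of_coprime (x := r) (n := n) h3
  exact mem_zpowers_iff.2 ⟨m, by rw [zpow_natCast, hm]⟩

/-- **The certificate**: groups with Sylow `p`-subgroups of order `p ^ 3`. -/
theorem wpair_of_cube [Finite G] [Fact p.Prime] (h4 : ¬ p ^ 4 ∣ Nat.card G) {a b c : G} (ha : a ^ p = 1) (hb : b ^ p = 1)
    (hc : c ^ p = 1) (hc1 : c ≠ 1) (hac : a * c = c * a) (hbc : b * c = c * b) (hab : a * b = b * a * c)
    (H : ∀ r s : G, Rp p a b c r → Rp p a b c s → ∃ g : G,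
      r * (g * s * g⁻¹) * ((g * s * g⁻¹) * r) ≠ (g * s * g⁻¹) * r * (r * (g * s * g⁻¹)))
    {x y : G} (hx : orderOf x = p) (hy : orderOf y = p) : WPair p (⊤ : Subgroup G) x y := by
  have hp : p.Prime := Fact.out
  -- the Sylow subgroup
  obtain ⟨Q, hQ, haQ, hbQ⟩ := Cfsg.Agent.H573.exists_pgroup_of_class_two (p := p) (a := a) (b := b) (c := c) (i := 1) (j := 1)
    (k := 1) (by rw [pow_one, ha]) (by rw [pow_one, hb]) (by rw [pow_one, hc]) hac hbc hab
  have hle : closure ({a, b} : Set G) ≤ Q := by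
    rw [closure_le]
    rintro z (rfl | rfl)
    · exact haQ
    · exact hbQ
  have hP : IsPGroup p (closure ({a, b} : Set G)) := hQ.to_le hle
  have hidx : ¬ p ∣ (closure ({a, b} : Set G)).index := by
    intro hd
    obtain ⟨n, hn⟩ := IsPGroup.iff_card.1 hP
    have hn3 : 3 ≤ n := by
      by_contra hlt
      have hcomm : ∀ u v : closure ({a, b} : Set G), u * v = v * u := by
        have hn2 : n ≤ 2 := by omega
        interval_cases n
        · have h1 : Subsingleton (closure ({a, b} : Set G)) := (Nat.card_eq_one_iff_unique.1 (by simpa using hn)).1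
          exact fun u v => Subsingleton.elim _ _
        · have h1 : IsCyclic (closure ({a, b} : Set G)) := isCyclic_of_prime_card (p := p) (by simpa using hn)
          let _ := IsCyclic.commGroup (α := (closure ({a, b} : Set G)))
          exact fun u v => mul_comm u v
        · exact fun u v => (IsPGroup.isMulCommutative_of_card_eq_prime_sq hn).1.1 u v
      have h1 := congrArg Subtype.val (hcomm ⟨a, subset_closure (by simp)⟩ ⟨b, subset_closure (by simp)⟩)
      change a * b = b * a at h1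
      rw [hab] at h1
      exact hc1 (mul_eq_left.1 h1)
    apply h4
    rw [← Subgroup.card_mul_index (closure ({a, b} : Set G)), hn]
    calc p ^ 4 = p ^ 3 * p := by rw [pow_succ]
      _ ∣ p ^ n * (closure ({a, b} : Set G)).index := Nat.mul_dvd_mul (pow_dvd_pow p hn3) hd
  -- the representatives are `p`-elements
  have hrp : ∀ r, Rp p a b c r → ∃ N, r ^ p ^ N = 1 := by
    intro r hr
    rcases hr with rfl | rfl | ⟨t, -, rfl⟩
    · exact ⟨1, by rw [pow_one, hc]⟩
    · exact ⟨1, by rw [pow_one, ha]⟩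
    · obtain ⟨N, hN⟩ := hP ⟨a ^ t * b, mul_mem (pow_mem (subset_closure (by simp)) _) (subset_closure (by simp))⟩
      exact ⟨N, congrArg Subtype.val hN⟩
  have key : ∀ z : G, orderOf z = p → ∃ r, Rp p a b c r ∧ ∃ (u : G) (n : ℕ), ¬ p ∣ n ∧ z = u * r ^ n * u⁻¹ := by
    intro z hz
    obtain ⟨g, hg⟩ := exists_conj_mem_of_index hidx hz
    have hne : g * z * g⁻¹ ≠ 1 := by
      intro h
      have h1 : z = 1 := by
        have h2 : z = g⁻¹ * (g * z * g⁻¹) * g := by group
        rw [h2, h]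
        group
      rw [h1, orderOf_one] at hz
      exact hp.one_lt.ne hz
    obtain ⟨r, hr, u, n, hn, h⟩ := exists_rep hp ha hc hbc hac hab hb hg hne
    refine ⟨r, hr, g⁻¹ * u, n, hn, ?_⟩
    calc z = g⁻¹ * (g * z * g⁻¹) * g := by group
      _ = g⁻¹ * u * r ^ n * (g⁻¹ * u)⁻¹ := by rw [h]; group
  obtain ⟨r, hr, u, n, hn, rfl⟩ := key x hx
  obtain ⟨s, hs, v, m, hm, rfl⟩ := key y hy
  obtain ⟨g, hg⟩ := H r s hr hs
  refine ⟨u * g * v⁻¹, mem_top _, fun hK => hg ?_⟩
  set K := closure ({u * r ^ n * u⁻¹, u * g * v⁻¹ * (v * s ^ m * v⁻¹) * (u * g * v⁻¹)⁻¹} : Set G) with hKdef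
  have h1 : u * r * u⁻¹ ∈ K := by
    have h2 : u * r ^ n * u⁻¹ ∈ K := subset_closure (by simp)
    obtain ⟨N, hN⟩ := hrp r hr
    obtain ⟨e, he⟩ := mem_zpowers_iff.1 (mem_zpowers_pow hp hN hn)
    have h3 : u * r * u⁻¹ = (u * r ^ n * u⁻¹) ^ e := by
      rw [conj_zpow, he]
    rw [h3]
    exact zpow_mem h2 e
  have h2 : u * (g * s * g⁻¹) * u⁻¹ ∈ K := by
    have h2 : u * g * v⁻¹ * (v * s ^ m * v⁻¹) * (u * g * v⁻¹)⁻¹ ∈ K := subset_closure (by simp)
    obtain ⟨N, hN⟩ := hrp s hs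
    obtain ⟨e, he⟩ := mem_zpowers_iff.1 (mem_zpowers_pow hp hN hm)
    have h4 : u * g * v⁻¹ * (v * s ^ m * v⁻¹) * (u * g * v⁻¹)⁻¹ = (u * g) * s ^ m * (u * g)⁻¹ := by group
    rw [h4] at h2
    have h3 : u * (g * s * g⁻¹) * u⁻¹ = ((u * g) * s ^ m * (u * g)⁻¹) ^ e := by
      rw [conj_zpow, he]
      group
    rw [h3]
    exact zpow_mem h2 e
  have h3 := law_of_isPGroup h4 hK h1 h2
  generalize g * s * g⁻¹ = s' at h3 ⊢
  have e1 : u * r * u⁻¹ * (u * s' * u⁻¹) * (u * s' * u⁻¹ * (u * r * u⁻¹)) = u * (r * s' * (s' * r)) * u⁻¹ := by group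
  have e2 : u * s' * u⁻¹ * (u * r * u⁻¹) * (u * r * u⁻¹ * (u * s' * u⁻¹)) = u * (s' * r * (r * s')) * u⁻¹ := by group
  rw [e1, e2] at h3
  exact mul_left_cancel (mul_right_cancel h3)

end Main

end Cfsg.Agent.H461.T5
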