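import Cfsg.Agent.H461.T5.Cube
import Cfsg.Agent.H573.Spor.Co0

/-!
# The certificate `wpair_of_cube` for subgroups of `Co0` (helper461)

The conjugating element `gG` is the permutation `x ↦ 2 x` of the coordinates, an element of order 11 of `M22`.
-/

set_option autoImplicit false
set_option maxRecDepth 100000

namespace Cfsg.Agent.H461.T5

open Subgroup Cfsg Cfsg.Agent.SporadicA Cfsg.Agent.SporadicStructure.Co0Matrix Cfsg.Agent.CoOneType.CoEval
open Cfsg.Agent.LThreeCo1.Ev Cfsg.Agent.LThreeMB.Fix Cfsg.Agent.H573.Spor.Co0 Cfsg.Agent.H533.T5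

/-- words of the representatives -/
def wr : ℕ → List ℕ
  | 0 => [2]
  | 1 => [0]
  | t + 2 => List.replicate t 0 ++ [1]

/-- the word of the conjugate -/
def ws (j : ℕ) : List ℕ := [3] ++ wr j ++ [4]

/-- the check of the law for the pairs `i ≤ j` of representatives with first entry `i` -/
def chkR (M : ℕ → List (List ℤ)) (p i : ℕ) : Bool :=
  (List.range (p + 2)).all fun j =>
    bif Nat.blt j i then true
    else neB' M (wr i ++ ws j ++ (ws j ++ wr i)) (ws j ++ wr i ++ (wr i ++ ws j))

section Gen

variable {e : ℕ → Co0} {M : ℕ → List (List ℤ)}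

theorem Rp.word {p : ℕ} {r : Co0} (hr : Rp p (e 0) (e 1) (e 2) r) : ∃ i < p + 2, r = ((wr i).map e).prod := by
  rcases hr with rfl | rfl | ⟨t, ht, rfl⟩
  · exact ⟨0, by omega, by simp [wr]⟩
  · exact ⟨1, by omega, by simp [wr]⟩
  · exact ⟨t + 2, by omega, by simp [wr]⟩

theorem law_ne_le (hM : ∀ i, Rep (e i) (M i)) {p : ℕ} (h : ∀ i < p + 2, chkR M p i = true) (h34 : e 3 * e 4 = 1)
    {i j : ℕ} (hi : i < p + 2) (hj : j < p + 2) (hij : i ≤ j) :
    ((wr i).map e).prod * (e 3 * ((wr j).map e).prod * (e 3)⁻¹) * ((e 3 * ((wr j).map e).prod * (e 3)⁻¹) *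
      ((wr i).map e).prod) ≠ (e 3 * ((wr j).map e).prod * (e 3)⁻¹) * ((wr i).map e).prod * (((wr i).map e).prod *
      (e 3 * ((wr j).map e).prod * (e 3)⁻¹)) := by
  have h4 : (e 3)⁻¹ = e 4 := inv_eq_of_mul_eq_one_right h34
  have h1 := List.all_eq_true.1 (h i hi) j (List.mem_range.2 hj)
  have h0 : Nat.blt j i = false := by
    rw [← Bool.not_eq_true, Nat.blt_eq]
    omega
  rw [h0, cond_false] at h1
  have h2 := ne_of_neB' hM h1
  simp only [List.map_append, List.prod_append] at h2
  have h3 : ((ws j).map e).prod = e 3 * ((wr j).map e).prod * (e 3)⁻¹ := by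
    rw [h4, ws, List.map_append, List.map_append, List.prod_append, List.prod_append]
    simp
  rwa [h3] at h2

theorem law_ne (hM : ∀ i, Rep (e i) (M i)) {p : ℕ} (h : ∀ i < p + 2, chkR M p i = true) (h34 : e 3 * e 4 = 1) {r s : Co0}
    (hr : Rp p (e 0) (e 1) (e 2) r) (hs : Rp p (e 0) (e 1) (e 2) s) :
    r * (e 3 * s * (e 3)⁻¹) * ((e 3 * s * (e 3)⁻¹) * r) ≠ (e 3 * s * (e 3)⁻¹) * r * (r * (e 3 * s * (e 3)⁻¹)) ∨
    r * ((e 3)⁻¹ * s * (e 3)⁻¹⁻¹) * (((e 3)⁻¹ * s * (e 3)⁻¹⁻¹) * r) ≠
      ((e 3)⁻¹ * s * (e 3)⁻¹⁻¹) * r * (r * ((e 3)⁻¹ * s * (e 3)⁻¹⁻¹)) := by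
  obtain ⟨i, hi, rfl⟩ := Rp.word hr
  obtain ⟨j, hj, rfl⟩ := Rp.word hs
  rcases le_total i j with hij | hij
  · exact Or.inl (law_ne_le hM h h34 hi hj hij)
  · right
    have h1 := law_ne_le hM h h34 hj hi hij
    generalize ((wr i).map e).prod = r at h1 ⊢
    generalize ((wr j).map e).prod = s at h1 ⊢
    generalize e 3 = g at h1 ⊢
    intro h2
    apply h1
    have e1 : s * (g * r * g⁻¹) * (g * r * g⁻¹ * s) =
        g * (g⁻¹ * s * g⁻¹⁻¹ * r * (r * (g⁻¹ * s * g⁻¹⁻¹))) * g⁻¹ := by group
    have e2 : g * r * g⁻¹ * s * (s * (g * r * g⁻¹)) =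
        g * (r * (g⁻¹ * s * g⁻¹⁻¹) * (g⁻¹ * s * g⁻¹⁻¹ * r)) * g⁻¹ := by group
    rw [e1, e2, h2]

theorem Rp.map {G H : Type*} [Group G] [Group H] (φ : G →* H) {p : ℕ} {a b c r : G} (hr : Rp p a b c r) :
    Rp p (φ a) (φ b) (φ c) (φ r) := by
  rcases hr with rfl | rfl | ⟨t, ht, rfl⟩
  · exact Or.inl rfl
  · exact Or.inr (Or.inl rfl)
  · exact Or.inr (Or.inr ⟨t, ht, by rw [map_mul, map_pow]⟩)

/-- **the pairs**, for a subgroup `X` of `Co₀` -/
theorem wpair_of_le {p : ℕ} [Fact p.Prime] (X : Subgroup (Equiv.Perm leechLattice)) (hX : X ≤ Co0)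
    (h4 : ¬ p ^ 4 ∣ Nat.card X) (hM : ∀ i, Rep (e i) (M i)) (h : ∀ i < p + 2, chkR M p i = true) (h34 : e 3 * e 4 = 1)
    (m0 : (e 0).1 ∈ X) (m1 : (e 1).1 ∈ X) (m2 : (e 2).1 ∈ X) (m3 : (e 3).1 ∈ X) (ha : e 0 ^ p = 1) (hb : e 1 ^ p = 1)
    (hc : e 2 ^ p = 1) (hc1 : e 2 ≠ 1) (hac : e 0 * e 2 = e 2 * e 0) (hbc : e 1 * e 2 = e 2 * e 1)
    (hab : e 0 * e 1 = e 1 * e 0 * e 2) {x y : X} (hx : orderOf x = p) (hy : orderOf y = p) :
    WPair p (⊤ : Subgroup X) x y := by
  have hfin : Finite X := by
    refine Nat.finite_of_card_ne_zero fun h => ?_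
    rw [h] at h4
    exact h4 (dvd_zero _)
  have inj : Function.Injective (Subgroup.inclusion hX) := Subgroup.inclusion_injective hX
  refine wpair_of_cube h4 (a := ⟨_, m0⟩) (b := ⟨_, m1⟩) (c := ⟨_, m2⟩) (inj ?_) (inj ?_) (inj ?_) (fun hcon => hc1 ?_)
    (inj ?_) (inj ?_) (inj ?_) (fun r s hr hs => ?_) hx hy
  · rw [map_pow, map_one]; exact ha
  · rw [map_pow, map_one]; exact hb
  · rw [map_pow, map_one]; exact hc
  · exact congrArg (Subgroup.inclusion hX) hcon
  · rw [map_mul, map_mul]; exact hac
  · rw [map_mul, map_mul]; exact hbc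
  · rw [map_mul, map_mul, map_mul]; exact hab
  · rcases law_ne hM h h34 (Rp.map (Subgroup.inclusion hX) hr) (Rp.map (Subgroup.inclusion hX) hs) with h6 | h6
    · refine ⟨⟨_, m3⟩, fun hcon => h6 ?_⟩
      have h5 := congrArg (Subgroup.inclusion hX) hcon
      simp only [map_mul, map_inv] at h5
      exact h5
    · refine ⟨⟨_, m3⟩⁻¹, fun hcon => h6 ?_⟩
      have h5 := congrArg (Subgroup.inclusion hX) hcon
      simp only [map_mul, map_inv] at h5
      exact h5

end Gen

/-! ### the conjugating element -/

def nG : ℕ := 0xc42108421084210842108421084210842108421084210c4210842108421086210842108421084210842108421084210842108421086210842108421084310842108421084210842108421084210842108421084310842108421084218842108421084210842108421084210842108421084218842108421084210c42108421084210842108421084210842108421084210c4210842108421086210842108421084210842108421084210842108421086210842108421084310842108421084210842108421084210842108421084310842108421084218842108421084210842108421084210842108421084218842108421084210c42108421084210842108421084210842108421084210c4210842108421086210842108421084210842108421084210842108421086210842108421084310842108421084210842108421084210842108421084310842108421084218842108421084210842108421084210842108421084218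
def nH : ℕ := 0xc4210842108421084210842108421084310842108421084210842108421084210c4210842108421084210842108421084310842108421084210842108421084210c4210842108421084210842108421084310842108421084210842108421084210c4210842108421084210842108421084310842108421084210842108421084210c4210842108421084210842108421084310842108421084210842108421084210c4210842108421084210842108421084310862108421084210842108421084210842188421084210842108421084210842108621084210842108421084210842108421884210842108421084210842108421086210842108421084210842108421084218842108421084210842108421084210862108421084210842108421084210842188421084210842108421084210842108621084210842108421084210842108421884210842108421084210842108421086210842108421084210842108421084218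

theorem okG : okN nG = true := by decide +kernel
theorem okH : okN nH = true := by decide +kernel

def gG : Co0 := mk (ok_of_okN okG)
theorem repG : Rep gG (dec nG) := rep_mk _
def gH : Co0 := mk (ok_of_okN okH)
theorem repH : Rep gH (dec nH) := rep_mk _

theorem gh : gG * gH = 1 := by
  have hM : ∀ i, Rep ((fun n : ℕ => if n = 0 then gG else gH) i) ((fun n : ℕ => if n = 0 then dec nG else dec nH) i) := by
    intro i
    by_cases hi : i = 0
    · simp only [hi, if_true]; exact repG
    · simp only [hi, if_false]; exact repH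
  have h := eq_of_eqB hM (w := [0, 1]) (w' := []) (by decide +kernel)
  simpa using h

end Cfsg.Agent.H461.T5
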